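import Groth.Agent.Lib.RigidRel.AbSch
import Groth.Agent.Lib.RigidRel.Global
import Groth.Agent.Lib.VarDim.Irred
import Groth.Agent.Lib.GeomIrr18.Scheme
import Groth.Agent.Lib.AbRigid.SmoothGI
import Groth.Prelude.Def_Red
import Mathlib.CategoryTheory.Monoidal.Cartesian.Over

/-!
# Rigidity for proper flat families with only constant functions on the fibres
-/

universe u

set_option backward.isDefEq.respectTransparency false
set_option linter.style.haveILetI false

open CategoryTheory Limits AlgebraicGeometry MonoidalCategory CartesianMonoidalCategory MonObj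

namespace Groth.Agent.RigidGIT19

/-- A proper flat morphism collapsing one fibre is pulled back from the connected base. -/
theorem exists_eq_comp_of_collapsed {S X Y : Scheme.{u}} [IsLocallyNoetherian S] [PreconnectedSpace S] (p : X ⟶ S)
    [IsProper p] [Flat p] [Surjective p] (hc : RigidRel.ConstFibres p) (q : Y ⟶ S) [IsSeparated q] (f : X ⟶ Y)
    (hf : f ≫ q = p) (s : S) (hs : ∀ x x' : X, p x = s → p x' = s → f x = f x') :
    ∃ t : S ⟶ Y, t ≫ q = 𝟙 S ∧ f = p ≫ t := by
  haveI : LocallyOfFinitePresentation p := VarDim.locallyOfFinitePresentation_of_locallyNoetherian p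
  have h0 : ∀ U : S.Opens, IsAffineOpen U → Function.Bijective (p.app U).hom :=
    fun U hU => RigidRel.bijective_app p hc hU
  have hmem : s ∈ RigidRel.collapsed p f := by
    obtain ⟨x₀, hx₀⟩ := p.surjective s
    exact ⟨f x₀, fun x hx => hs x x₀ hx hx₀⟩
  have hall : ∀ t, t ∈ RigidRel.collapsed p f := fun t => by
    rcases isClopen_iff.mp (⟨RigidRel.isClosed_collapsed p h0 f q hf, RigidRel.isOpen_collapsed p h0 f⟩ :
      IsClopen (RigidRel.collapsed p f)) with h | h
    · rw [h] at hmem; exact absurd hmem (Set.notMem_empty s)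
    · rw [h]; trivial
  obtain ⟨r, hr, hr'⟩ := (RigidRel.exists_factor_iff p h0 f q hf S (𝟙 S)).2 fun t => hall t
  refine ⟨r, hr, ?_⟩
  have h := congrArg (fun m => pullback.lift (𝟙 X) p (by simp) ≫ m) hr'
  simp only [pullback.lift_fst_assoc, pullback.lift_snd_assoc] at h
  exact (Category.id_comp f).symm.trans h

/-- Bijectivity on global functions of the fibres makes the morphism surjective. -/
theorem surjective_of_h0 {X S : Scheme.{u}} (p : X ⟶ S)
    (h0 : ∀ s : S, Function.Bijective (pullback.snd p (S.fromSpecResidueField s)).appTop) : Surjective p := by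
  refine ⟨fun s => ?_⟩
  haveI : Nontrivial Γ(Spec (S.residueField s), ⊤) :=
    (Scheme.ΓSpecIso (S.residueField s)).commRingCatIsoToRingEquiv.nontrivial
  haveI : Nontrivial Γ(pullback p (S.fromSpecResidueField s), ⊤) := (h0 s).1.nontrivial
  obtain ⟨z⟩ : Nonempty (↥(pullback p (S.fromSpecResidueField s))) := by
    by_contra h
    haveI := not_nonempty_iff.mp h
    exact one_ne_zero (α := Γ(pullback p (S.fromSpecResidueField s), ⊤)) (Subsingleton.elim _ _)
  refine ⟨pullback.fst p (S.fromSpecResidueField s) z, ?_⟩
  rw [← Scheme.Hom.comp_apply, pullback.condition, Scheme.Hom.comp_apply]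
  exact Scheme.fromSpecResidueField_apply _ _

theorem constFibres_of_h0 {X S : Scheme.{u}} (p : X ⟶ S) [QuasiCompact p] [QuasiSeparated p]
    (h0 : ∀ s : S, Function.Bijective (pullback.snd p (S.fromSpecResidueField s)).appTop) : RigidRel.ConstFibres p :=
  RigidRel.constFibres_of_fibre p fun s => (h0 s).2

/-- Two morphisms into a group agreeing on a fibre differ by a section. -/
theorem exists_eq_section_mul {S : Scheme.{u}} [IsLocallyNoetherian S] [PreconnectedSpace S] {X G : Over S} [GrpObj G]
    [IsSeparated G.hom] [IsProper X.hom] [Flat X.hom] [Surjective X.hom] (hc : RigidRel.ConstFibres X.hom)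
    (f g : X ⟶ G) (s : S)
    (hs : pullback.fst X.hom (S.fromSpecResidueField s) ≫ f.left = pullback.fst X.hom (S.fromSpecResidueField s) ≫ g.left) :
    ∃ t : 𝟙_ (Over S) ⟶ G, f = (toUnit X ≫ t) * g := by
  let h := f * g⁻¹
  let P : Over S := Over.mk (pullback.fst X.hom (S.fromSpecResidueField s) ≫ X.hom)
  let j : P ⟶ X := Over.homMk (pullback.fst _ _) rfl
  have hj : j ≫ f = j ≫ g := Over.OverMorphism.ext hs
  have he : j ≫ h = toUnit P ≫ η[G] := by
    rw [comp_mul, GrpObj.comp_inv, hj, mul_inv_cancel, Hom.one_def]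
  obtain ⟨t, ht, ht'⟩ := exists_eq_comp_of_collapsed X.hom hc G.hom h.left (Over.w h) s (fun x x' hx hx' => by
    have key : ∀ x : X.left, X.hom x = s → h.left x = η[G].left s := by
      intro x hx
      obtain ⟨z, hz, -⟩ := Scheme.Pullback.exists_preimage_pullback (f := X.hom) (g := S.fromSpecResidueField s) x
        (IsLocalRing.closedPoint _) (hx.trans (Scheme.fromSpecResidueField_apply _ _).symm)
      rw [← hz]
      have := congrArg (fun m : P ⟶ G => m.left z) he
      refine this.trans (congrArg η[G].left ?_)
      show (pullback.fst X.hom (S.fromSpecResidueField s) ≫ X.hom) z = s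
      rw [pullback.condition, Scheme.Hom.comp_apply]
      exact Scheme.fromSpecResidueField_apply _ _
    rw [key x hx, key x' hx'])
  refine ⟨Over.homMk t ht, ?_⟩
  have e : h = toUnit X ≫ Over.homMk t ht := Over.OverMorphism.ext (by
    rw [Over.comp_left, Over.toUnit_left]; exact ht')
  rw [← e]
  exact (inv_mul_cancel_right f g).symm

/-- Two morphisms out of a product agreeing with a section-fibre differ by a morphism of the second factor. -/
theorem exists_eq_snd_mul {S : Scheme.{u}} {X Y G : Over S} [GrpObj G] [IsSeparated G.hom] [IsLocallyNoetherian Y.left]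
    [PreconnectedSpace Y.left] [IsProper X.hom] [Flat X.hom] [Surjective X.hom] (hc : RigidRel.ConstFibres X.hom)
    (f b : X ⊗ Y ⟶ G) (e : 𝟙_ (Over S) ⟶ Y) (s : S)
    (hfb : lift (𝟙 X) (toUnit X ≫ e) ≫ f = lift (𝟙 X) (toUnit X ≫ e) ≫ b) :
    ∃ τ : Y ⟶ G, f = (snd X Y ≫ τ) * b := by
  let h := f * b⁻¹
  let ξ : (X ⊗ Y).left ⟶ Y.left := (snd X Y).left
  haveI : IsProper ξ := inferInstanceAs (IsProper (pullback.snd X.hom Y.hom))
  haveI : Flat ξ := inferInstanceAs (Flat (pullback.snd X.hom Y.hom))
  haveI : Surjective ξ := inferInstanceAs (Surjective (pullback.snd X.hom Y.hom))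
  have hc' : RigidRel.ConstFibres ξ := hc.baseChange Y.hom
  have hw : h.left ≫ G.hom = ξ ≫ Y.hom := (Over.w h).trans (Over.w (snd X Y)).symm
  let h' : (X ⊗ Y).left ⟶ pullback G.hom Y.hom := pullback.lift h.left ξ hw
  obtain ⟨t, ht, ht'⟩ := exists_eq_comp_of_collapsed ξ hc' (pullback.snd G.hom Y.hom) h' (pullback.lift_snd _ _ _)
    (e.left s) (fun p p' hp hp' => by
      have key : ∀ p : (X ⊗ Y).left, ξ p = e.left s →
          h' p = (pullback.lift η[G].left e.left ((Over.w η[G]).trans (Over.w e).symm) : S ⟶ _) s := by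
        intro p hp
        obtain ⟨x, rfl⟩ := RigidRel.exists_lift_left_eq e p s hp
        have h1 : lift (𝟙 X) (toUnit X ≫ e) ≫ h = toUnit X ≫ η[G] := by
          rw [comp_mul, GrpObj.comp_inv, hfb, mul_inv_cancel, Hom.one_def]
        have h2 : (lift (𝟙 X) (toUnit X ≫ e)).left ≫ h' = X.hom ≫ pullback.lift η[G].left e.left
            ((Over.w η[G]).trans (Over.w e).symm) := by
          apply pullback.hom_ext
          · simp only [Category.assoc, h', pullback.lift_fst]
            rw [← Over.comp_left, h1, Over.comp_left, Over.toUnit_left]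
          · simp only [Category.assoc, h', pullback.lift_snd, ξ]
            rw [← Over.comp_left, lift_snd, Over.comp_left, Over.toUnit_left]
        rw [← Scheme.Hom.comp_apply, h2, Scheme.Hom.comp_apply]
        refine congrArg _ ?_
        have := congrArg Y.hom hp
        rw [← Scheme.Hom.comp_apply e.left, Over.w e, ← Scheme.Hom.comp_apply, Over.w (snd X Y)] at this
        refine Eq.trans ?_ this
        rw [← Scheme.Hom.comp_apply, Over.w (lift (𝟙 X) (toUnit X ≫ e))]
      rw [key p hp, key p' hp'])
  refine ⟨Over.homMk (t ≫ pullback.fst G.hom Y.hom) (by rw [Category.assoc, pullback.condition, reassoc_of% ht]), ?_⟩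
  have e' : h = snd X Y ≫ Over.homMk (U := Y) (V := G) (t ≫ pullback.fst G.hom Y.hom)
      (by rw [Category.assoc, pullback.condition, reassoc_of% ht]) := Over.OverMorphism.ext (by
    rw [Over.comp_left]
    show h.left = ξ ≫ t ≫ pullback.fst G.hom Y.hom
    rw [← Category.assoc ξ, ← ht', pullback.lift_fst])
  rw [← e']
  exact (inv_mul_cancel_right f b).symm

/-- Connected geometric fibres give a geometrically connected morphism. -/
theorem geometricallyConnected_of_geomFibre {X S : Scheme.{u}} (p : X ⟶ S)
    (hc : ∀ s : S, ConnectedSpace (Red.geomFibre s (Over.mk p)).left) : GeometricallyConnected p := by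
  rw [GeometricallyConnected.iff_geometricallyConnected_fiber]
  intro s
  let g := Spec.map (CommRingCat.ofHom (algebraMap (S.residueField s) (AlgebraicClosure (S.residueField s))))
  haveI : Surjective g := ⟨fun z => ⟨IsLocalRing.closedPoint (AlgebraicClosure (S.residueField s)),
    Subsingleton.elim (α := PrimeSpectrum (S.residueField s)) _ _⟩⟩
  let e : pullback (p.fiberToSpecResidueField s) g ≅ (Red.geomFibre s (Over.mk p)).left :=
    pullbackLeftPullbackSndIso p (S.fromSpecResidueField s) g
  haveI := hc s
  haveI : ConnectedSpace ↥(pullback (p.fiberToSpecResidueField s) g) :=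
    e.inv.homeomorph.surjective.connectedSpace e.inv.continuous
  haveI := GeomIrr.geometricallyConnected_of_isSepClosed (pullback.snd (p.fiberToSpecResidueField s) g)
  refine ⟨GeomIrr.geometrically_of_surjective (ConnectedSpace ·)
    (fun A B q hq hA => ?_) _ g GeometricallyConnected.geometrically_connectedSpace⟩
  haveI := hq
  haveI : ConnectedSpace A := hA
  exact GeomIrr.connectedSpace_of_surjective q

end Groth.Agent.RigidGIT19
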